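import Groth.Agent.FlatInjLib.FibreFree
import Groth.Agent.FlatInjLib.AssFlat
import Groth.Agent.S9407

/-!
# Modules flat at a generic point of a smooth fibre are free there
-/

set_option autoImplicit false
set_option backward.isDefEq.respectTransparency false
set_option linter.style.haveILetI false

universe u

open TensorProduct IsLocalRing

namespace FlatFreeGenLib

variable {A B : Type u} [CommRing A] [CommRing B] [Algebra A B] [Algebra.Smooth A B]

/-- At a prime minimal in its smooth fibre, the prime is generated by the prime of the base. -/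
theorem exists_mul_mem_map (q : Ideal B) [q.IsPrime]
    (hq : ∀ q'' : Ideal B, q''.IsPrime → q''.comap (algebraMap A B) = q.comap (algebraMap A B) → q'' ≤ q → q ≤ q'')
    {a : B} (ha : a ∈ q) : ∃ s ∉ q, s * a ∈ (q.comap (algebraMap A B)).map (algebraMap A B) := by
  classical
  let p := q.comap (algebraMap A B)
  haveI : q.LiesOver p := ⟨rfl⟩
  haveI : IsReduced (p.Fiber B) := Groth.Agent.S9407.result p.ResidueField (p.Fiber B)
  letI : Algebra p.ResidueField q.ResidueField := (Ideal.ResidueField.mapₐ p q (Algebra.ofId A B) rfl).toRingHom.toAlgebra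
  haveI : IsScalarTower A p.ResidueField q.ResidueField := IsScalarTower.of_algebraMap_eq fun x =>
    ((Ideal.ResidueField.mapₐ p q (Algebra.ofId A B) rfl).commutes x).symm
  let ψ : p.Fiber B →ₐ[A] q.ResidueField := Algebra.TensorProduct.lift
    (IsScalarTower.toAlgHom A p.ResidueField q.ResidueField) (IsScalarTower.toAlgHom A B q.ResidueField)
    fun _ _ => Commute.all _ _
  let P : Ideal (p.Fiber B) := RingHom.ker ψ.toRingHom
  haveI hPp : P.IsPrime := RingHom.ker_isPrime _
  have hcomap : P.comap (FibAssLib.incl B p) = q := by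
    ext x
    show ψ ((1 : p.ResidueField) ⊗ₜ[A] x) = 0 ↔ _
    rw [Algebra.TensorProduct.lift_tmul, map_one, one_mul]
    exact Ideal.algebraMap_residueField_eq_zero
  have hmin : P ∈ (⊥ : Ideal (p.Fiber B)).minimalPrimes := by
    refine ⟨⟨inferInstance, bot_le⟩, fun Q ⟨hQ, _⟩ hQP => ?_⟩
    haveI := hQ
    have h1 : Q.comap (FibAssLib.incl B p) ≤ q := le_trans (Ideal.comap_mono hQP) hcomap.le
    have h2 : (Q.comap (FibAssLib.incl B p)).comap (algebraMap A B) = q.comap (algebraMap A B) := by
      refine le_antisymm (Ideal.comap_mono h1) fun x hx => ?_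
      show (1 : p.ResidueField) ⊗ₜ[A] algebraMap A B x ∈ Q
      rw [Algebra.algebraMap_eq_smul_one, tmul_smul, smul_tmul', Algebra.smul_def, mul_one,
        Ideal.algebraMap_residueField_eq_zero.2 hx, zero_tmul]
      exact zero_mem _
    have h3 : Q.comap (FibAssLib.incl B p) = q := le_antisymm h1 (hq _ (Ideal.IsPrime.comap _) h2 h1)
    rw [← FlatInjLib.fiberIdeal_comap p P, ← FlatInjLib.fiberIdeal_comap p Q, hcomap, h3]
  have haP : FibAssLib.incl B p a ∈ P := by
    have : a ∈ P.comap (FibAssLib.incl B p) := by rw [hcomap]; exact ha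
    exact this
  obtain ⟨y, hy, hyn⟩ : ∃ y ∉ P, FibAssLib.incl B p a * y = 0 := by
    by_contra hno
    push Not at hno
    let L := Localization.AtPrime P
    haveI : Ring.KrullDimLE 0 L := Ring.KrullDimLE.mk₀ fun J hJ => by
      have hJP : (J.comap (algebraMap (p.Fiber B) L)) ≤ P :=
        ((IsLocalization.AtPrime.orderIsoOfPrime L P) ⟨J, hJ⟩).2.2
      have : J.comap (algebraMap (p.Fiber B) L) = P :=
        le_antisymm hJP (hmin.2 ⟨Ideal.IsPrime.comap _, bot_le⟩ hJP)
      have hJ' : J = IsLocalRing.maximalIdeal L := by
        rw [← IsLocalization.map_comap P.primeCompl L J]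
        show Ideal.map _ (J.comap (algebraMap (p.Fiber B) L)) = _
        rw [this, Localization.AtPrime.map_eq_maximalIdeal]
      exact hJ' ▸ IsLocalRing.maximalIdeal.isMaximal L
    have hm : algebraMap (p.Fiber B) L (FibAssLib.incl B p a) ∈ IsLocalRing.maximalIdeal L := by
      rw [← Localization.AtPrime.map_eq_maximalIdeal]
      exact Ideal.mem_map_of_mem _ haP
    rw [← Ring.KrullDimLE.nilradical_eq_maximalIdeal] at hm
    haveI : IsReduced L := isReduced_localizationPreserves P.primeCompl L inferInstance
    rw [nilradical_eq_zero, Submodule.zero_eq_bot, Ideal.mem_bot] at hm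
    obtain ⟨⟨y, hy⟩, e⟩ := (IsLocalization.map_eq_zero_iff P.primeCompl L _).1 hm
    exact hno y hy (by rw [mul_comm]; exact e)
  obtain ⟨t, ht, c, hc⟩ := FibAssLib.exists_incl_eq p y
  have hcq : c ∉ q := fun hcq => hy (by
    have h0 : c ∈ P.comap (FibAssLib.incl B p) := by rw [hcomap]; exact hcq
    have h1 : FibAssLib.incl B p (algebraMap A B t) * y ∈ P := hc ▸ h0
    exact (Ideal.unit_mul_mem_iff_mem _ (FibAssLib.isUnit_incl p ht)).1 h1)
  have h0 : FibAssLib.incl B p (c * a) = 0 := by
    rw [map_mul, ← hc, mul_assoc, mul_comm y, hyn, mul_zero]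
  have h3 : FlatCA.toFiberMod p B B (c * a) = 0 := by
    rw [show c * a = (c * a) • (1 : B) by rw [smul_eq_mul, mul_one], map_smul, FibAssLib.smul_eq, h0, zero_smul]
  obtain ⟨r, hr, hrz⟩ := FibAssLib.exists_smul_eq_zero_of_β p (z := Submodule.Quotient.mk (c * a)) h3
  rw [← Submodule.Quotient.mk_smul, Submodule.Quotient.mk_eq_zero, smul_eq_mul, Ideal.mul_top,
    Algebra.smul_def] at hrz
  refine ⟨algebraMap A B r * c, fun h => ?_, by rwa [mul_assoc]⟩
  rcases Ideal.IsPrime.mem_or_mem inferInstance h with h1 | h1
  · exact hr h1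
  · exact hcq h1

/-- A module flat over the base at a prime minimal in its smooth fibre is free there. -/
theorem exists_free_away (q : Ideal B) [q.IsPrime]
    (hq : ∀ q'' : Ideal B, q''.IsPrime → q''.comap (algebraMap A B) = q.comap (algebraMap A B) → q'' ≤ q → q ≤ q'')
    (N : Type u) [AddCommGroup N] [Module B N] [Module A N] [IsScalarTower A B N] [Module.FinitePresentation B N]
    (hflat : Module.Flat A (LocalizedModule q.primeCompl N)) :
    ∃ r ∉ q, ∃ n : ℕ, Nonempty (Module.Basis (Fin n) (Localization.Away r) (LocalizedModule.Away r N)) := by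
  classical
  let p := q.comap (algebraMap A B)
  haveI : q.LiesOver p := ⟨rfl⟩
  let A' := Localization.AtPrime p
  let B' := Localization.AtPrime q
  letI : Algebra A' B' := (Localization.localRingHom p q (algebraMap A B) rfl).toAlgebra
  haveI : IsScalarTower A A' B' := IsScalarTower.of_algebraMap_eq fun x => by
    show _ = Localization.localRingHom p q (algebraMap A B) rfl (algebraMap A A' x)
    rw [Localization.localRingHom_to_map, IsScalarTower.algebraMap_apply A B B']
  haveI : IsLocalHom (algebraMap A' B') := Localization.isLocalHom_localRingHom p q (algebraMap A B) rfl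
  let N' := LocalizedModule q.primeCompl N
  letI : Module A' N' := Module.compHom N' (algebraMap A' B')
  haveI : IsScalarTower A' B' N' := IsScalarTower.of_algebraMap_smul fun _ _ => rfl
  haveI : IsScalarTower A A' N' := IsScalarTower.of_algebraMap_smul fun x m => by
    show algebraMap A' B' (algebraMap A A' x) • m = x • m
    rw [← IsScalarTower.algebraMap_apply A A' B', algebraMap_smul]
  haveI : Module.Flat A' N' := (Module.flat_iff_of_isLocalization A' p.primeCompl N').2 hflat
  haveI : Module.FinitePresentation B' N' :=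
    FinitePresentation.of_isBaseChange (LocalizedModule.mkLinearMap q.primeCompl N)
      ((isLocalizedModule_iff_isBaseChange q.primeCompl B' _).1 inferInstance)
  have hmax : maximalIdeal B' = (maximalIdeal A').map (algebraMap A' B') := by
    refine le_antisymm ?_ (Ideal.map_le_iff_le_comap.2 fun x hx hu => hx (IsUnit.of_map (algebraMap A' B') x hu))
    rw [← Localization.AtPrime.map_eq_maximalIdeal, Ideal.map_le_iff_le_comap]
    intro a ha
    obtain ⟨s, hs, hsa⟩ := exists_mul_mem_map q hq ha
    have h1 : algebraMap B B' (s * a) ∈ (maximalIdeal A').map (algebraMap A' B') := by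
      have h2 := Ideal.mem_map_of_mem (algebraMap B B') hsa
      rw [Ideal.map_map, ← IsScalarTower.algebraMap_eq, IsScalarTower.algebraMap_eq A A' B', ← Ideal.map_map,
        Localization.AtPrime.map_eq_maximalIdeal] at h2
      exact h2
    rw [map_mul] at h1
    exact (Ideal.unit_mul_mem_iff_mem _ (IsLocalization.map_units B' (⟨s, hs⟩ : q.primeCompl))).1 h1
  haveI : Module.Free B' N' := by
    refine FlatInjLib.free_of_flat_of_flat_fibre (A := A') ?_
    haveI : ((maximalIdeal A').map (algebraMap A' B')).IsMaximal := hmax ▸ maximalIdeal.isMaximal B'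
    letI := Ideal.Quotient.field ((maximalIdeal A').map (algebraMap A' B'))
    infer_instance
  obtain ⟨r, hr, hfree, -⟩ := Module.FinitePresentation.exists_free_localizedModule_powers q.primeCompl
    (LocalizedModule.mkLinearMap q.primeCompl N) B'
  haveI : Nontrivial (Localization.Away r) :=
    (show Localization (Submonoid.powers r) →+* B' from IsLocalization.map (M := Submonoid.powers r) (T := q.primeCompl) _
      (RingHom.id _) (Submonoid.powers_le.mpr hr)).domain_nontrivial
  haveI := hfree
  refine ⟨r, hr, _, ⟨Module.finBasis _ _⟩⟩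

omit [Algebra.Smooth A B] in
/-- A basis of one localization gives a basis of any other. -/
theorem nonempty_basis_of_away (r : B) {n : ℕ} {N : Type u} [AddCommGroup N] [Module B N]
    (b : Module.Basis (Fin n) (Localization.Away r) (LocalizedModule.Away r N))
    (R' : Type u) [CommRing R'] [Algebra B R'] [IsLocalization.Away r R'] {N' : Type u} [AddCommGroup N'] [Module B N']
    [Module R' N'] [IsScalarTower B R' N'] (g : N →ₗ[B] N') [IsLocalizedModule (Submonoid.powers r) g] :
    Nonempty (Module.Basis (Fin n) R' N') := by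
  let σ : Localization.Away r ≃ₐ[B] R' := IsLocalization.algEquiv (Submonoid.powers r) _ _
  letI : Module (Localization.Away r) N' := Module.compHom N' σ.toAlgHom.toRingHom
  haveI : IsScalarTower B (Localization.Away r) N' := IsScalarTower.of_algebraMap_smul fun x m => by
    show σ (algebraMap B _ x) • m = x • m
    rw [σ.commutes, algebraMap_smul]
  let e := (IsLocalizedModule.iso (Submonoid.powers r) g).extendScalarsOfIsLocalization (Submonoid.powers r)
    (Localization.Away r)
  exact ⟨(b.map e).mapCoeffs σ.toRingEquiv fun c x => rfl⟩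

end FlatFreeGenLib
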