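import Groth.Agent.FlatFreeGenLib.Alg
import Groth.Agent.FlatFunLimLib.FreeSheaf
import Groth.Agent.FlatDimLib.Main
import Groth.Agent.FlatDimLib.RelAss
import Groth.Agent.FibDimLib.Smooth
import Groth.Agent.FlatLib.QStalk
import Groth.Agent.AlgSpLib.RelDim2
import Groth.Agent.UOpenLib.FibreDim

/-!
# Flatness in top dimensions is freeness at the generic points
-/

set_option autoImplicit false
set_option backward.isDefEq.respectTransparency false
set_option linter.style.haveILetI false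

universe u

open CategoryTheory CategoryTheory.Limits AlgebraicGeometry TopologicalSpace Opposite

noncomputable section

namespace FlatFreeGenLib

open RankLocusLib FlatFunLimLib

section points

variable {X T : Scheme.{u}} (q : X ⟶ T) (d : ℕ) [SmoothOfRelativeDimension d q]

theorem toENat_resTrdeg_generic {η : X} (hη : FlatFun.IsGenericPtOfFibre q η) :
    Cardinal.toENat (Dual3.resTrdeg q η) = d := by
  haveI : Smooth q := SmoothOfRelativeDimension.smooth (n := d) q
  have h := UOpenLib.fibreDimAt_eq_of_max q (x := η) fun x' h1 h2 =>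
    ((specializes_iff_mem_closure.2 h2).antisymm (hη x' h1)).eq
  rw [FibDimLib.fibreDimAt_smoothOfRelativeDimension d q, AlgSpLib.fibreClosureDim_eq_resTrdeg] at h
  exact_mod_cast h.symm

theorem eq_generic_of_le_resTrdeg {η x : X} (hη : FlatFun.IsGenericPtOfFibre q η) (hx : q x = q η)
    (hd : (d : Cardinal.{u}) ≤ Dual3.resTrdeg q x) : x = η := by
  haveI : Smooth q := SmoothOfRelativeDimension.smooth (n := d) q
  have h := AlgSpLib.fibreDimAt_eq_stalk_add_resTrdeg q x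
  rw [FibDimLib.fibreDimAt_smoothOfRelativeDimension d q] at h
  have hle : (d : ℕ∞) ≤ Cardinal.toENat (Dual3.resTrdeg q x) := Cardinal.natCast_le_toENat_iff.2 hd
  have h0 : ringKrullDim ((q.fiber (q x)).presheaf.stalk (q.asFiber x)) ≤ 0 := by
    revert h hle
    generalize Cardinal.toENat (Dual3.resTrdeg q x) = t
    generalize ringKrullDim ((q.fiber (q x)).presheaf.stalk (q.asFiber x)) = k
    intro h hle
    induction k using WithBot.recBotCoe with
    | bot => exact bot_le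
    | coe k =>
      change ((d : ℕ∞) : WithBot ℕ∞) = (k : WithBot ℕ∞) + (t : WithBot ℕ∞) at h
      rw [← WithBot.coe_add, WithBot.coe_inj] at h
      induction t using ENat.recTopCoe with
      | top => rw [add_top] at h; exact absurd h (ENat.coe_ne_top d)
      | coe t =>
        induction k using ENat.recTopCoe with
        | top => rw [top_add] at h; exact absurd h (ENat.coe_ne_top d)
        | coe k =>
          norm_cast at h hle ⊢
          omega
  haveI : Ring.KrullDimLE 0 ((q.fiber (q x)).presheaf.stalk (q.asFiber x)) := Ring.krullDimLE_iff.2 h0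
  obtain ⟨w, hw⟩ : η ∈ Set.range (q.fiberι (q x)) := by
    rw [q.range_fiberι]; exact hx.symm
  have hwx : w ⤳ q.asFiber x := (q.fiberι (q x)).isEmbedding.isInducing.specializes_iff.1
    (hw.symm ▸ (q.fiberι_asFiber x).symm ▸ hη x hx)
  obtain ⟨P, hP⟩ := (Scheme.range_fromSpecStalk (X := q.fiber (q x)) (x := q.asFiber x)).ge hwx
  have hPc : P = IsLocalRing.closedPoint _ :=
    PrimeSpectrum.ext (IsLocalRing.eq_maximalIdeal (inferInstanceAs P.asIdeal.IsMaximal))
  rw [← hw, ← hP, hPc, Scheme.fromSpecStalk_closedPoint, q.fiberι_asFiber]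

end points

section smooth

variable {X T : Scheme.{u}} (q : X ⟶ T) [Smooth q] (G : X.Modules) [Coh.IsQCoh G]

theorem isFlatOverAt_of_isFreeOfRankNear {p : ℕ} {η : X} (h : FlatFun.IsFreeOfRankNear G p η) :
    FlatMod.IsFlatOverAt q G η := by
  obtain ⟨O, hO, hfree⟩ := (FlatFunLimLib.isFreeOfRankNear_iff _ p η).1 h
  obtain ⟨W, hW, hηW, -⟩ := exists_isAffineOpen_mem_and_subset (x := q η) (U := ⊤) trivial
  obtain ⟨V, hV, hηV, hVO⟩ := exists_isAffineOpen_mem_and_subset (x := η) (U := O ⊓ q ⁻¹ᵁ W) ⟨hO, hηW⟩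
  obtain ⟨b⟩ := nonempty_basis_of_freeAlong G (U := V) (freeAlong_of_le (f := 𝟙 _)
    (by rw [Category.comp_id]; exact hfree) (le_trans hVO inf_le_left) |> fun h => by rwa [Category.comp_id] at h)
  letI : Algebra Γ(T, W) Γ(X, V) := (q.appLE W V (le_trans hVO inf_le_right)).hom.toAlgebra
  letI : Module Γ(T, W) Γ(G, V) := Module.compHom _ (q.appLE W V (le_trans hVO inf_le_right)).hom
  haveI : IsScalarTower Γ(T, W) Γ(X, V) Γ(G, V) :=
    ⟨fun a b c => mul_smul ((q.appLE W V _).hom a) b c⟩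
  rw [FlatLib.isFlatOverAt_iff q G W hW V hV (le_trans hVO inf_le_right) hηV rfl]
  haveI : Algebra.Smooth Γ(T, W) Γ(X, V) :=
    RingHom.smooth_algebraMap.1 (HasRingHomProperty.appLE (P := @Smooth) q inferInstance ⟨W, hW⟩ ⟨V, hV⟩
      (le_trans hVO inf_le_right))
  haveI : Module.Flat Γ(X, V) Γ(G, V) := by
    haveI := Module.Free.of_basis b
    infer_instance
  let P := (hV.primeIdealOf ⟨η, hηV⟩).asIdeal
  haveI : Module.Flat Γ(X, V) (LocalizedModule P.primeCompl Γ(G, V)) :=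
    Module.Flat.trans Γ(X, V) (Localization P.primeCompl) _
  exact Module.Flat.trans Γ(T, W) Γ(X, V) _

theorem exists_isFreeOfRankNear (hG : CohB1.IsFP G) {η : X} (hη : FlatFun.IsGenericPtOfFibre q η)
    (h : FlatMod.IsFlatOverAt q G η) : ∃ n, FlatFun.IsFreeOfRankNear G n η := by
  obtain ⟨W, hW, hηW, -⟩ := exists_isAffineOpen_mem_and_subset (x := q η) (U := ⊤) trivial
  obtain ⟨V, hV, hηV, hVW⟩ := exists_isAffineOpen_mem_and_subset (x := η) (U := q ⁻¹ᵁ W) hηW
  letI : Algebra Γ(T, W) Γ(X, V) := (q.appLE W V hVW).hom.toAlgebra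
  letI : Module Γ(T, W) Γ(G, V) := Module.compHom _ (q.appLE W V hVW).hom
  haveI : IsScalarTower Γ(T, W) Γ(X, V) Γ(G, V) := ⟨fun a b c => mul_smul ((q.appLE W V _).hom a) b c⟩
  haveI : Algebra.Smooth Γ(T, W) Γ(X, V) :=
    RingHom.smooth_algebraMap.1 (HasRingHomProperty.appLE (P := @Smooth) q inferInstance ⟨W, hW⟩ ⟨V, hV⟩ hVW)
  haveI := FittLib.finitePresentation_affine G hG hV
  rw [FlatLib.isFlatOverAt_iff q G W hW V hV hVW hηV rfl] at h
  let P := (hV.primeIdealOf ⟨η, hηV⟩).asIdeal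
  obtain ⟨r, hr, n, ⟨b⟩⟩ := exists_free_away (A := Γ(T, W)) P (fun Q hQ hcomap hle => by
    haveI := hQ
    let ξ := hV.fromSpec ⟨Q, hQ⟩
    have hξV : ξ ∈ V := AssPointLib.fromSpec_mem hV _
    have hξQ : (hV.primeIdealOf ⟨ξ, hξV⟩).asIdeal = Q :=
      congrArg PrimeSpectrum.asIdeal (AssPointLib.primeIdealOf_fromSpec hV ⟨Q, hQ⟩)
    have h1 := congrArg PrimeSpectrum.asIdeal (IsAffineOpen.comap_primeIdealOf_appLE W hW V hV hVW hηV)
    have h2 := congrArg PrimeSpectrum.asIdeal (IsAffineOpen.comap_primeIdealOf_appLE W hW V hV hVW hξV)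
    have hqξ : q ξ = q η := by
      have h3 : hW.primeIdealOf ⟨q ξ, hVW hξV⟩ = hW.primeIdealOf ⟨q η, hVW hηV⟩ := PrimeSpectrum.ext
        ((h2.symm.trans ((congrArg (Ideal.comap _) hξQ).trans hcomap)).trans h1)
      have h4 := congrArg hW.fromSpec h3
      rwa [hW.fromSpec_primeIdealOf, hW.fromSpec_primeIdealOf] at h4
    exact hξQ ▸ (UOpenLib.primeIdealOf_le_iff hV hηV hξV).2 (hη ξ hqξ)) Γ(G, V) h
  let D := X.basicOpen r
  have hηD : η ∈ D := by
    letI : Algebra Γ(X, V) (X.presheaf.stalk η) := (X.presheaf.germ V η hηV).hom.toAlgebra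
    have hloc := hV.isLocalization_stalk ⟨η, hηV⟩
    exact (X.mem_basicOpen r η hηV).2 ((IsLocalization.AtPrime.isUnit_to_map_iff (X.presheaf.stalk η) P r).2 hr)
  letI : Algebra Γ(X, V) Γ(X, D) := (X.presheaf.map (homOfLE (X.basicOpen_le r)).op).hom.toAlgebra
  letI := Module.compHom Γ(G, D) (X.presheaf.map (homOfLE (X.basicOpen_le r)).op).hom
  haveI : IsScalarTower Γ(X, V) Γ(X, D) Γ(G, D) := IsScalarTower.of_algebraMap_smul fun _ _ => rfl
  haveI : IsLocalization.Away r Γ(X, D) := hV.isLocalization_basicOpen r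
  haveI := FlatnLib.isLocalizedModule_res G hV r (fun _ _ => rfl) (FittLib.resLin G r) (fun _ => rfl)
  obtain ⟨b'⟩ := nonempty_basis_of_away r b Γ(X, D) (FittLib.resLin G r)
  exact ⟨n, (FlatFunLimLib.isFreeOfRankNear_iff _ n η).2 ⟨D, hηD, freeAlong_of_basis G (hV.basicOpen r) b'⟩⟩

end smooth

theorem isFreeOfRankNear_of_isOpenImmersion {X Y : Scheme.{u}} (m : Y ⟶ X) [IsOpenImmersion m] (G : X.Modules)
    {G' : Y.Modules} (e : (Scheme.Modules.pullback m).obj G ≅ G') {p : ℕ} (y : Y)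
    (h : FlatFun.IsFreeOfRankNear G' p y) : FlatFun.IsFreeOfRankNear G p (m y) := by
  obtain ⟨O, hO, hfree⟩ := (FlatFunLimLib.isFreeOfRankNear_iff G' p y).1 h
  refine (FlatFunLimLib.isFreeOfRankNear_iff G p (m y)).2 ⟨m ''ᵁ O, ⟨y, hO, rfl⟩, ?_⟩
  have h1 : FreeAlong p G (O.ι ≫ m) := by
    obtain ⟨e'⟩ := hfree
    exact (freeAlong_pullback_iff m O.ι).1 ⟨(Scheme.Modules.pullback O.ι).mapIso e ≪≫ e'⟩
  rw [← Scheme.Hom.isoImage_inv_ι m O]
  exact freeAlong_comp h1 _

section main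

variable {X S : Scheme.{u}} (f : X ⟶ S) (d : ℕ) [SmoothOfRelativeDimension d f] [GeometricallyIrreducible f]
  (F : X.Modules) [Coh.IsQCoh F] (hF : CohB1.IsFP F)

/-- The number of global generators bounds the ranks. -/
theorem rank_le [IsAffine X] (T : Over S) {n : ℕ} (v : Fin n → Γ(F, ⊤))
    (hv : Submodule.span Γ(X, ⊤) (Set.range v) = ⊤) {p : ℕ} {η : PicF.XT f T}
    (h : FlatFun.IsFreeOfRankNear (FGA.ET f F T) p η) : p ≤ n := by
  obtain ⟨O, hO, hfree⟩ := (FlatFunLimLib.isFreeOfRankNear_iff _ p η).1 h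
  obtain ⟨U, hU, hηU, hUO⟩ := exists_isAffineOpen_mem_and_subset (x := η) (U := O) hO
  let π := pullback.fst f T.hom
  have h1 : FreeAlong p F (U.ι ≫ π) := freeAlong_of_le ((freeAlong_pullback_iff π O.ι).1 hfree) hUO
  have hle : U ≤ π ⁻¹ᵁ (⊤ : X.Opens) := fun _ _ => trivial
  letI : Algebra Γ(X, ⊤) Γ(PicF.XT f T, U) := (π.appLE ⊤ U hle).hom.toAlgebra
  letI : Module Γ(X, ⊤) Γ(KFlatLib.pb π F, U) := Module.compHom _ (π.appLE ⊤ U hle).hom
  haveI : IsScalarTower Γ(X, ⊤) Γ(PicF.XT f T, U) Γ(KFlatLib.pb π F, U) :=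
    ⟨fun a b c => mul_smul ((π.appLE ⊤ U hle).hom a) b c⟩
  obtain ⟨ψ, hψ⟩ := exists_baseChange F (isAffineOpen_top X) π hU hle
  haveI : Coh.IsQCoh (KFlatLib.pb π F) := KFlatLib.isQCoh_pullback π F
  obtain ⟨b⟩ := nonempty_basis_of_freeAlong (KFlatLib.pb π F) ((freeAlong_pullback_iff π U.ι).2 h1)
  have hr := fibreRank_le_of_basis hψ b (hU.primeIdealOf ⟨η, hηU⟩)
  let Q := PrimeSpectrum.comap (algebraMap Γ(X, ⊤) Γ(PicF.XT f T, U)) (hU.primeIdealOf ⟨η, hηU⟩)
  let φ : (Fin n → Γ(X, ⊤)) →ₗ[Γ(X, ⊤)] Γ(F, ⊤) := Fintype.linearCombination Γ(X, ⊤) v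
  have hφ : Function.Surjective φ := by
    rw [← LinearMap.range_eq_top, Fintype.range_linearCombination, hv]
  have hbase : Function.Surjective (φ.baseChange Q.asIdeal.ResidueField) := LinearMap.lTensor_surjective _ hφ
  haveI : Nontrivial Γ(X, ⊤) := (RingHom.domain_nontrivial (algebraMap Γ(X, ⊤) Q.asIdeal.ResidueField))
  refine hr ▸ le_trans (LinearMap.finrank_le_finrank_of_surjective hbase) ?_
  rw [Module.finrank_baseChange, Module.finrank_fintype_fun_eq_card, Fintype.card_fin]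

include hF in
theorem flatInDim_iff [IsAffine X] : ∃ c : ℕ, ∀ T : Over S,
    (FlatFun.DimFibresLT d (PicF.XTproj f T)
      {x | ¬ FlatMod.IsFlatOverAt (PicF.XTproj f T) (FGA.ET f F T) x}) ↔
    ∀ t : T.left, ∃ (V : T.left.Opens) (p : ℕ), t ∈ V ∧ p ≤ c ∧
      FlatFun.FreeAtGenericPts (PicF.XTproj f (Over.mk (V.ι ≫ T.hom)))
        (FGA.ET f F (Over.mk (V.ι ≫ T.hom))) p := by
  haveI : Smooth f := SmoothOfRelativeDimension.smooth (n := d) f
  haveI := FittLib.finitePresentation_affine F hF (isAffineOpen_top X)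
  obtain ⟨c, v, hv⟩ := Module.Finite.exists_fin (R := Γ(X, ⊤)) (M := Γ(F, ⊤))
  refine ⟨c, fun T => ?_⟩
  let q := PicF.XTproj f T
  let G := FGA.ET f F T
  haveI : Smooth q := inferInstanceAs (Smooth (pullback.snd f T.hom))
  haveI : SmoothOfRelativeDimension d q :=
    by
      haveI := smoothOfRelativeDimension_isStableUnderBaseChange d
      exact MorphismProperty.pullback_snd (P := @SmoothOfRelativeDimension d) f T.hom inferInstance
  haveI : Coh.IsQCoh G := KFlatLib.isQCoh_pullback _ F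
  have hG : CohB1.IsFP G := RichLib.ModFlat.isFP_pullback _ hF
  constructor
  · intro hflat t
    obtain ⟨η, hη, hηt⟩ := exists_generic f T t
    have hfl : FlatMod.IsFlatOverAt q G η := by_contra fun hn => by
      have h1 : Dual3.resTrdeg q η < (d : Cardinal.{u}) := hflat η hn
      have h2 := toENat_resTrdeg_generic q d hη
      exact absurd (Cardinal.natCast_le_toENat_iff.1 h2.ge) (not_le.2 h1)
    obtain ⟨p, hp⟩ := exists_isFreeOfRankNear q G hG hη hfl
    let V : T.left.Opens := ⟨q '' {x | FlatFun.IsFreeOfRankNear G p x},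
      q.isOpenMap _ (isOpen_setOf_isFreeOfRankNear G p)⟩
    refine ⟨V, p, ⟨η, hp, hηt⟩, rank_le f F T v hv hp, (freeAtGenericPts_iff f p _ _).2 fun t' => ?_⟩
    obtain ⟨z, hz, hzt⟩ := t'.2
    let g : Over.mk (V.ι ≫ T.hom) ⟶ T := Over.homMk (U := Over.mk (V.ι ≫ T.hom)) (V := T) V.ι rfl
    obtain ⟨z', hz', hz't⟩ := exists_point_of_isPullback (FlatFunShLib.isPullback_XTmap f g) z t' hzt
    exact ⟨z', hz't, isFreeOfRankNear_pullback _ _ (FGA.ETiso f F g) p z' (hz'.symm ▸ hz)⟩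
  · intro h x hx
    obtain ⟨η, hη, hηt⟩ := exists_generic f T (q x)
    obtain ⟨V, p, htV, -, hfree⟩ := h (q x)
    let g : Over.mk (V.ι ≫ T.hom) ⟶ T := Over.homMk (U := Over.mk (V.ι ≫ T.hom)) (V := T) V.ι rfl
    obtain ⟨z', hz't, -, hz'f⟩ := hfree ⟨q x, htV⟩
    have sq := FlatFunShLib.isPullback_XTmap f g
    haveI : IsOpenImmersion (PicF.XTmap f g) :=
      MorphismProperty.of_isPullback (P := @IsOpenImmersion) sq.flip (inferInstanceAs (IsOpenImmersion V.ι))
    have hz := isFreeOfRankNear_of_isOpenImmersion (PicF.XTmap f g) G (FGA.ETiso f F g) z' hz'f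
    have hqz : q (PicF.XTmap f g z') = q η := by
      show (PicF.XTproj f T) (PicF.XTmap f g z') = _
      rw [← Scheme.Hom.comp_apply, sq.w, Scheme.Hom.comp_apply, hz't, hηt]
      rfl
    have hfl := isFlatOverAt_of_isFreeOfRankNear q G (isFreeOfRankNear_of_specializes (hη _ hqz) hz)
    refine lt_of_not_ge fun hd => hx ?_
    rw [eq_generic_of_le_resTrdeg q d hη hηt.symm hd]
    exact hfl

end main

end FlatFreeGenLib
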